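import Mathlib
import Cfsg.Agent.Lib.Components.Layer

/-!
Groups in which cyclic `p`-subgroups of equal order are conjugate have at most one component,
given that groups of odd order are solvable.
-/

set_option autoImplicit false
set_option linter.style.haveILetI false

namespace CfsgLib.ConjCyclic

open Subgroup CfsgLib.Components

universe u

variable {G : Type u} [Group G] [Finite G]

/-- The hypothesis: cyclic `p`-subgroups of the same order are conjugate. -/
def CyclicConj (G : Type u) [Group G] : Prop :=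
  ∀ (p : ℕ), p.Prime → ∀ A B : Subgroup G, IsCyclic ↥A → IsCyclic ↥B → IsPGroup p ↥A →
    Nat.card ↥A = Nat.card ↥B → ∃ g : G, B = A.map (MulAut.conj g).toMonoidHom

/-- A noncentral element of a component centralises every other component and not its own. -/
theorem moved_iff {K₁ K : Subgroup G} (hK₁ : Cfsg.IsComponent K₁) (hK : Cfsg.IsComponent K)
    {x : G} (hx : x ∈ K₁) (hxc : x ∉ centralizer (K₁ : Set G)) :
    x ∉ centralizer (K : Set G) ↔ K = K₁ := by
  refine ⟨fun h => ?_, fun h => h ▸ hxc⟩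
  by_contra hne
  exact h (le_centralizer_of_commutator_eq_bot
    (component_commutator_of_ne hK₁ hK (Ne.symm hne)) hx)

theorem commute_of_ne {K₁ K₂ : Subgroup G} (h1 : Cfsg.IsComponent K₁) (h2 : Cfsg.IsComponent K₂)
    (hne : K₁ ≠ K₂) {x y : G} (hx : x ∈ K₁) (hy : y ∈ K₂) : Commute x y :=
  ((mem_centralizer_iff.1 (le_centralizer_of_commutator_eq_bot
    (component_commutator_of_ne h1 h2 hne) hx)) y hy).symm

/-- A conjugate of a cyclic subgroup moves exactly the conjugates of what the subgroup moves. -/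
theorem conj_moves {x y g : G}
    (hxy : zpowers y = (zpowers x).map (MulAut.conj g).toMonoidHom) (K : Subgroup G) :
    y ∈ centralizer (K : Set G) ↔
      x ∈ centralizer ((K.map (MulAut.conj g⁻¹).toMonoidHom : Subgroup G) : Set G) := by
  have h1 : y ∈ centralizer (K : Set G) ↔ g * x * g⁻¹ ∈ centralizer (K : Set G) := by
    rw [MonoidHom.map_zpowers] at hxy
    have hxy' : zpowers y = zpowers (g * x * g⁻¹) := by simpa using hxy
    rw [← zpowers_le, hxy', zpowers_le]
  rw [h1, mem_centralizer_iff, mem_centralizer_iff]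
  constructor
  · rintro h z ⟨k, hk, rfl⟩
    have := h k hk
    simp only [MulEquiv.coe_toMonoidHom, MulAut.conj_apply, inv_inv]
    calc g⁻¹ * k * g * x = g⁻¹ * (k * (g * x * g⁻¹)) * g := by group
      _ = g⁻¹ * (g * x * g⁻¹ * k) * g := by rw [this]
      _ = x * (g⁻¹ * k * g) := by group
  · intro h k hk
    have h' := h ((MulAut.conj g⁻¹).toMonoidHom k) (mem_map_of_mem _ hk)
    simp only [MulEquiv.coe_toMonoidHom, MulAut.conj_apply, inv_inv] at h'
    calc k * (g * x * g⁻¹) = g * ((g⁻¹ * k * g) * x) * g⁻¹ := by group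
      _ = g * (x * (g⁻¹ * k * g)) * g⁻¹ := by rw [h']
      _ = g * x * g⁻¹ * k := by group

/-- A prime dividing the order of the central quotient of a component has a noncentral element. -/
theorem exists_noncentral_pElement {K : Subgroup G} {p : ℕ} [Fact p.Prime]
    (hp : p ∣ Nat.card (↥K ⧸ center ↥K)) :
    ∃ x ∈ K, x ∉ centralizer (K : Set G) ∧ ∃ a : ℕ, orderOf x = p ^ a := by
  obtain ⟨P⟩ : Nonempty (Sylow p ↥K) := inferInstance
  by_contra hcon
  push Not at hcon
  apply P.not_dvd_index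
  have hPZ : (P : Subgroup ↥K) ≤ center ↥K := by
    intro x hx
    obtain ⟨a, ha⟩ := (IsPGroup.iff_orderOf.mp P.2) ⟨x, hx⟩
    rw [Subgroup.orderOf_mk] at ha
    have h2 : (x : G) ∈ centralizer (K : Set G) := by
      by_contra h2
      exact hcon (x : G) x.2 h2 a (by rw [orderOf_coe]; exact ha)
    exact Subgroup.mem_center_iff.2 fun k =>
      Subtype.ext (mem_centralizer_iff.1 h2 k k.2)
  exact hp.trans (index_dvd_of_le hPZ)

/-- Two different components with noncentral `p`-elements have elements of equal orders. -/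
theorem order_eq (hP : CyclicConj G) {K₁ K₂ : Subgroup G} (h1 : Cfsg.IsComponent K₁)
    (h2 : Cfsg.IsComponent K₂) (hne : K₁ ≠ K₂) {p a b : ℕ} (hp : p.Prime) {x y : G}
    (hx : x ∈ K₁) (hxc : x ∉ centralizer (K₁ : Set G)) (hxo : orderOf x = p ^ a)
    (hy : y ∈ K₂) (hyc : y ∉ centralizer (K₂ : Set G)) (hyo : orderOf y = p ^ b) :
    orderOf (x * y) ≠ orderOf x := by
  intro he
  have hcyc : ∀ z : G, IsCyclic ↥(zpowers z) := fun z => inferInstance
  have hpg : IsPGroup p ↥(zpowers x) := IsPGroup.of_card (n := a) (by rw [Nat.card_zpowers, hxo])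
  obtain ⟨g, hg⟩ := hP p hp (zpowers x) (zpowers (x * y)) (hcyc _) (hcyc _) hpg
    (by rw [Nat.card_zpowers, Nat.card_zpowers, he])
  have key : ∀ K : Subgroup G, Cfsg.IsComponent K → x * y ∉ centralizer (K : Set G) →
      K.map (MulAut.conj g⁻¹).toMonoidHom = K₁ := fun K hK h =>
    (moved_iff h1 (component_map_conj hK _) hx hxc).1 fun h' => h ((conj_moves hg K).2 h')
  have hy1 : y ∈ centralizer (K₁ : Set G) := by
    by_contra h
    exact hne ((moved_iff h2 h1 hy hyc).1 h)
  have hx2 : x ∈ centralizer (K₂ : Set G) := by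
    by_contra h
    exact hne ((moved_iff h1 h2 hx hxc).1 h).symm
  have e1 := key K₁ h1 fun h => hxc ((mul_mem_cancel_right hy1).1 h)
  have e2 := key K₂ h2 fun h => hyc ((mul_mem_cancel_left hx2).1 h)
  exact hne (map_injective (MulAut.conj g⁻¹).injective (e1.trans e2.symm))

/-- Noncentral `p`-elements of different components have the same order. -/
theorem prime_pow_eq (hP : CyclicConj G) {K₁ K₂ : Subgroup G} (h1 : Cfsg.IsComponent K₁)
    (h2 : Cfsg.IsComponent K₂) (hne : K₁ ≠ K₂) {p a b : ℕ} (hp : p.Prime) {x y : G}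
    (hx : x ∈ K₁) (hxc : x ∉ centralizer (K₁ : Set G)) (hxo : orderOf x = p ^ a)
    (hy : y ∈ K₂) (hyc : y ∉ centralizer (K₂ : Set G)) (hyo : orderOf y = p ^ b) :
    a = b := by
  have hc := commute_of_ne h1 h2 hne hx hy
  haveI : Fact p.Prime := ⟨hp⟩
  have key : ∀ {u v : G} {c d : ℕ}, Commute u v → orderOf u = p ^ c → orderOf v = p ^ d → d < c →
      orderOf (u * v) = orderOf u := by
    intro u v c d huv hu hv hdc
    obtain ⟨e, rfl⟩ := Nat.exists_eq_add_of_lt hdc
    rw [hu]
    have hv1 : ∀ k, v ^ p ^ (d + k) = 1 := fun k =>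
      orderOf_dvd_iff_pow_eq_one.1 (hv ▸ Nat.pow_dvd_pow p (by omega))
    refine orderOf_eq_prime_pow ?_ ?_
    · rw [huv.mul_pow, hv1, mul_one]
      intro h
      have hd := orderOf_dvd_of_pow_eq_one h
      rw [hu, Nat.pow_dvd_pow_iff_le_right hp.one_lt] at hd
      omega
    · rw [huv.mul_pow, show d + e + 1 = d + (e + 1) from rfl, hv1, mul_one]
      rw [show p ^ (d + (e + 1)) = orderOf u from hu.symm]
      exact pow_orderOf_eq_one u
  rcases lt_trichotomy a b with h | h | h
  · refine absurd ?_ (order_eq hP h2 h1 hne.symm hp hy hyc hyo hx hxc hxo)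
    exact key hc.symm hyo hxo h
  · exact h
  · exact absurd (key hc hxo hyo h) (order_eq hP h1 h2 hne hp hx hxc hxo hy hyc hyo)

/-- No odd prime divides two central quotients. -/
theorem not_odd_common (hP : CyclicConj G) {K₁ K₂ : Subgroup G} (h1 : Cfsg.IsComponent K₁)
    (h2 : Cfsg.IsComponent K₂) (hne : K₁ ≠ K₂) {p : ℕ} (hp : p.Prime) (hp2 : p ≠ 2)
    (hd1 : p ∣ Nat.card (↥K₁ ⧸ center ↥K₁)) : ¬ p ∣ Nat.card (↥K₂ ⧸ center ↥K₂) := by
  intro hd2
  haveI : Fact p.Prime := ⟨hp⟩
  obtain ⟨x, hx, hxc, a, hxo⟩ := exists_noncentral_pElement hd1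
  obtain ⟨y, hy, hyc, b, hyo⟩ := exists_noncentral_pElement hd2
  obtain rfl := prime_pow_eq hP h1 h2 hne hp hx hxc hxo hy hyc hyo
  obtain ⟨c, rfl⟩ : ∃ c, a = c + 1 := by
    refine Nat.exists_eq_succ_of_ne_zero fun h0 => hxc ?_
    rw [h0, pow_zero, orderOf_eq_one_iff] at hxo
    exact hxo ▸ one_mem _
  have hcop : Nat.Coprime (orderOf y) 2 := by
    rw [hyo]; exact Nat.Coprime.pow_left _ ((Nat.coprime_primes hp Nat.prime_two).2 hp2)
  have hc := commute_of_ne h1 h2 hne hx hy
  have hy2o : orderOf (y ^ 2) = p ^ (c + 1) := by rw [hcop.orderOf_pow, hyo]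
  have hy2c : y ^ 2 ∉ centralizer (K₂ : Set G) := by
    obtain ⟨k, hk⟩ := exists_pow_eq_self_of_coprime hcop.symm
    exact fun h => hyc (hk ▸ pow_mem h k)
  have collapse : ∀ v ∈ K₂, v ∉ centralizer (K₂ : Set G) → orderOf v = p ^ (c + 1) →
      (x * v) ^ p ^ c = 1 := by
    intro v hv hvc hvo
    by_contra h
    refine order_eq hP h1 h2 hne hp hx hxc hxo hv hvc hvo ?_
    rw [hxo]
    refine orderOf_eq_prime_pow h ?_
    rw [(commute_of_ne h1 h2 hne hx hv).mul_pow]
    nth_rw 1 [← hxo]; rw [pow_orderOf_eq_one, one_mul, ← hvo, pow_orderOf_eq_one]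
  have e1 := collapse y hy hyc hyo
  have e2 := collapse (y ^ 2) (pow_mem hy 2) hy2c hy2o
  rw [(hc.pow_right 2).mul_pow] at e2
  rw [hc.mul_pow] at e1
  have h3 : y ^ p ^ c = 1 := by
    have h4 := mul_left_cancel (e2.trans e1.symm)
    rw [← pow_mul, mul_comm 2, pow_mul, pow_two] at h4
    exact mul_left_cancel (h4.trans (mul_one _).symm)
  have h5 := orderOf_dvd_of_pow_eq_one h3
  rw [hyo, Nat.pow_dvd_pow_iff_le_right hp.one_lt] at h5
  omega

/-- A component has no solvable central quotient. -/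
theorem quotient_center_not_isSolvable {K : Subgroup G} (hK : Cfsg.IsComponent K) :
    ¬ Group.IsSolvable (↥K ⧸ center ↥K) := by
  intro h
  apply quasisimple_not_isSolvable hK.2
  haveI : Group.IsSolvable ↥(center ↥K) :=
    Group.isSolvable_of_comm fun a b => Subtype.ext (Subgroup.mem_center_iff.1 b.2 a)
  exact Group.isSolvable_of_ker_le_range (center ↥K).subtype (QuotientGroup.mk' (center ↥K))
    (by simp [QuotientGroup.ker_mk'])

/-- A noncommutative simple quotient has an odd prime divisor. -/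
theorem exists_odd_prime {K : Subgroup G} (hK : Cfsg.IsComponent K) :
    ∃ p : ℕ, p.Prime ∧ p ≠ 2 ∧ p ∣ Nat.card (↥K ⧸ center ↥K) := by
  by_contra hcon
  push Not at hcon
  apply quotient_center_not_isSolvable hK
  have h2 : IsPGroup 2 (↥K ⧸ center ↥K) := by
    refine IsPGroup.of_card (n := (Nat.card (↥K ⧸ center ↥K)).primeFactorsList.length)
      (Nat.eq_prime_pow_of_unique_prime_dvd Nat.card_pos.ne' fun {d} hd hdd => ?_)
    by_contra hne
    exact hcon d hd hne hdd
  haveI : Fact (Nat.Prime 2) := ⟨Nat.prime_two⟩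
  haveI : Group.IsNilpotent (↥K ⧸ center ↥K) := h2.isNilpotent
  infer_instance

/-- There is only one component. -/
theorem component_unique (hP : CyclicConj G)
    (hFT : ∀ (H : Type u) [Group H] [Finite H], Odd (Nat.card H) → Group.IsSolvable H)
    {K₁ K₂ : Subgroup G} (h1 : Cfsg.IsComponent K₁) (h2 : Cfsg.IsComponent K₂) : K₁ = K₂ := by
  by_contra hne
  haveI : Fact (Nat.Prime 2) := ⟨Nat.prime_two⟩
  have heven : ∀ {K : Subgroup G}, Cfsg.IsComponent K → 2 ∣ Nat.card (↥K ⧸ center ↥K) := by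
    intro K hK
    by_contra h
    exact quotient_center_not_isSolvable hK
      (hFT _ (Nat.odd_iff.2 (Nat.two_dvd_ne_zero.1 h)))
  obtain ⟨x, hx, hxc, a, hxo⟩ := exists_noncentral_pElement (heven h1)
  obtain ⟨y, hy, hyc, b, hyo⟩ := exists_noncentral_pElement (heven h2)
  obtain rfl := prime_pow_eq hP h1 h2 hne Nat.prime_two hx hxc hxo hy hyc hyo
  obtain ⟨g, hg⟩ := hP 2 Nat.prime_two (zpowers x) (zpowers y) inferInstance inferInstance
    (IsPGroup.of_card (n := a) (by rw [Nat.card_zpowers, hxo]))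
    (by rw [Nat.card_zpowers, Nat.card_zpowers, hxo, hyo])
  have e : K₂.map (MulAut.conj g⁻¹).toMonoidHom = K₁ :=
    (moved_iff h1 (component_map_conj h2 _) hx hxc).1 fun h' => hyc ((conj_moves hg K₂).2 h')
  let f : ↥K₂ ≃* ↥K₁ := (K₂.equivMapOfInjective _ (MulAut.conj g⁻¹).injective).trans
    (MulEquiv.subgroupCongr e)
  obtain ⟨p, hp, hp2, hpd⟩ := exists_odd_prime h2
  refine not_odd_common hP h1 h2 hne hp hp2 ?_ hpd
  have hz : Nat.card (center ↥K₂) = Nat.card (center ↥K₁) :=
    Nat.card_congr (Subgroup.centerCongr f).toEquiv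
  have hk := Nat.card_congr f.toEquiv
  rw [card_eq_card_quotient_mul_card_subgroup (center ↥K₂),
    card_eq_card_quotient_mul_card_subgroup (center ↥K₁), hz] at hk
  exact Nat.eq_of_mul_eq_mul_right Nat.card_pos hk ▸ hpd

/-- The central quotient of the layer is simple. -/
theorem layer_quotient_simple (hP : CyclicConj G)
    (hFT : ∀ (H : Type u) [Group H] [Finite H], Odd (Nat.card H) → Group.IsSolvable H)
    (hE : Cfsg.layer G ≠ ⊥) :
    IsSimpleGroup (↥(Cfsg.layer G) ⧸ center ↥(Cfsg.layer G)) ∧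
      ¬ IsMulCommutative (↥(Cfsg.layer G) ⧸ center ↥(Cfsg.layer G)) := by
  obtain ⟨K, hK⟩ : ∃ K : Subgroup G, Cfsg.IsComponent K := by
    by_contra h
    push Not at h
    exact hE (layer_eq_bot_iff.2 h)
  have hL : Cfsg.layer G = K :=
    le_antisymm (sSup_le fun K' hK' => (component_unique hP hFT hK' hK).le) (component_le_layer hK)
  rw [hL]
  refine ⟨hK.2.2, fun h => ?_⟩
  exact quotient_center_not_isSolvable hK
    (Group.isSolvable_of_comm fun a b => h.is_comm.comm a b)

end CfsgLib.ConjCyclic
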